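import Groth.Agent.DispLift.Proj

/-!
# Dieudonné modules of level at least two: the level-one conditions
-/

set_option autoImplicit false
noncomputable section

universe u v w

namespace Groth.Agent.DispLift

variable {p : ℕ} [Fact p.Prime] {k : Type u} [CommRing k] [CharP k p] [PerfectRing k p]


/-- Witt vectors with coefficients in `q`. -/
def coeffIdeal (q : Ideal k) : Ideal (WittVector p k) := RingHom.ker (WittVector.map (p := p) (Ideal.Quotient.mk q))

/-- Witt vectors with constant coefficient in `q`. -/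
def zeroIdeal (q : Ideal k) : Ideal (WittVector p k) := q.comap (WittVector.constantCoeff : (WittVector p k) →+* k)

omit [Fact p.Prime] [CharP k p] [PerfectRing k p] in
theorem mem_coeffIdeal [Fact p.Prime] {q : Ideal k} {x : (WittVector p k)} : x ∈ coeffIdeal q ↔ ∀ n, x.coeff n ∈ q := by
  simp only [coeffIdeal, RingHom.mem_ker, WittVector.ext_iff, WittVector.map_coeff, WittVector.zero_coeff,
    Ideal.Quotient.eq_zero_iff_mem]

omit [PerfectRing k p] in
theorem frobenius_mem_coeffIdeal (q : Ideal k) {x : (WittVector p k)} (hx : x ∈ coeffIdeal q) :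
    WittVector.frobenius x ∈ coeffIdeal q := by
  rw [mem_coeffIdeal] at hx ⊢
  intro n
  rw [WittVector.coeff_frobenius_charP]
  exact Ideal.pow_mem_of_mem _ (hx n) _ (Fact.out : p.Prime).pos

theorem symm_mem_coeffIdeal {q : Ideal k} (hq : q.IsRadical) {x : (WittVector p k)} (hx : x ∈ coeffIdeal q) :
    (WittVector.frobeniusEquiv p k).symm x ∈ coeffIdeal q := by
  rw [mem_coeffIdeal] at hx ⊢
  intro n
  refine hq ⟨p, ?_⟩
  rw [← WittVector.coeff_frobenius_charP, ← WittVector.frobeniusEquiv_apply, RingEquiv.apply_symm_apply]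
  exact hx n

theorem zeroIdeal_eq (q : Ideal k) : zeroIdeal q = coeffIdeal q ⊔ Ideal.span {(p : (WittVector p k))} := by
  refine le_antisymm (fun x hx => ?_) (sup_le (fun x hx => mem_coeffIdeal.1 hx 0) ?_)
  · refine Submodule.mem_sup.2 ⟨WittVector.teichmuller p (x.coeff 0), mem_coeffIdeal.2 fun n => ?_,
      x - WittVector.teichmuller p (x.coeff 0), ?_, add_sub_cancel _ _⟩
    · rcases n with _ | n
      · rw [WittVector.teichmuller_coeff_zero]; exact hx
      · rw [WittVector.teichmuller_coeff_pos p _ _ n.succ_pos]; exact q.zero_mem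
    · rw [WittVector.mem_span_p_iff_coeff_zero_eq_zero]
      show WittVector.constantCoeff (x - WittVector.teichmuller p (x.coeff 0)) = 0
      rw [map_sub]
      exact sub_eq_zero.2 (WittVector.teichmuller_coeff_zero p _).symm
  · rw [Ideal.span_le, Set.singleton_subset_iff]
    show (p : (WittVector p k)).coeff 0 ∈ q
    rw [WittVector.coeff_p_zero]
    exact q.zero_mem

theorem coeff_zero_mem {q : Ideal k} (hq : q.IsRadical) {c : (WittVector p k)}
    (h : (p : (WittVector p k)) * c ∈ coeffIdeal q ⊔ Ideal.span {(p : (WittVector p k)) ^ 2}) : c ∈ zeroIdeal q := by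
  show c.coeff 0 ∈ q
  rcases eq_or_ne q ⊤ with rfl | hq1
  · exact Submodule.mem_top
  haveI : Nontrivial (k ⧸ q) := Ideal.Quotient.nontrivial_iff.2 hq1
  haveI : CharP (k ⧸ q) p := (CharP.charP_iff_prime_eq_zero (Fact.out : p.Prime)).2 (by
    rw [← map_natCast (Ideal.Quotient.mk q), CharP.cast_eq_zero, map_zero])
  obtain ⟨w, hw, z, hz, e⟩ := Submodule.mem_sup.1 h
  obtain ⟨z, rfl⟩ := Ideal.mem_span_singleton'.1 hz
  have e1 := congrArg (fun y : WittVector p k => (WittVector.map (p := p) (Ideal.Quotient.mk q) y).coeff 1) e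
  simp only [map_add, RingHom.mem_ker.1 hw, zero_add, map_mul, map_pow, map_natCast] at e1
  rw [WittVector.mul_pow_charP_coeff_zero _ one_lt_two, mul_comm, show (1 : ℕ) = 0 + 1 from rfl,
    WittVector.mul_charP_coeff_succ, WittVector.map_coeff, ← map_pow, eq_comm, Ideal.Quotient.eq_zero_iff_mem] at e1
  exact hq ⟨p, e1⟩

variable {A : Type w} [CommRing A] [Algebra (WittVector p k) A] {M : Type v} [AddCommGroup M] [Module (WittVector p k) M] [Module A M]
  [IsScalarTower (WittVector p k) A M] [Module.Finite A M] [Module.Projective A M]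

theorem mem_zeroIdeal_smul (hsurj : Function.Surjective (algebraMap (WittVector p k) A))
    (hker : RingHom.ker (algebraMap (WittVector p k) A) ≤ Ideal.span {(p : (WittVector p k)) ^ 2}) {q : Ideal k} (hq : q.IsRadical) {y : M}
    (hy : (p : (WittVector p k)) • y ∈ (coeffIdeal (p := p) q) • (⊤ : Submodule (WittVector p k) M)) : y ∈ (zeroIdeal (p := p) q) • (⊤ : Submodule (WittVector p k) M) := by
  classical
  obtain ⟨n, π, σ', hπ, -, hπσ⟩ := Module.Finite.exists_comp_eq_id_of_projective A M
  have e : y = π (σ' y) := (DFunLike.congr_fun hπσ y).symm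
  rw [e, LinearMap.pi_apply_eq_sum_univ π]
  refine Submodule.sum_mem _ fun l _ => ?_
  obtain ⟨c, hc⟩ := hsurj (σ' y l)
  rw [← hc, algebraMap_smul]
  refine Submodule.smul_mem_smul (coeff_zero_mem hq ?_) trivial
  have h1 : ∀ z ∈ (coeffIdeal (p := p) q) • (⊤ : Submodule (WittVector p k) M), σ' z l ∈ ((coeffIdeal (p := p) q)).map (algebraMap (WittVector p k) A) := fun z hz => by
    refine Submodule.smul_induction_on hz (fun a ha v _ => ?_) (fun a b ha hb => ?_)
    · rw [← algebraMap_smul A a v, map_smul, Pi.smul_apply, smul_eq_mul]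
      exact Ideal.mul_mem_right _ _ (Ideal.mem_map_of_mem _ ha)
    · rw [map_add, Pi.add_apply]; exact add_mem ha hb
  have h2 := h1 _ hy
  rw [← algebraMap_smul A (p : (WittVector p k)) y, map_smul, Pi.smul_apply, smul_eq_mul, ← hc, ← map_mul, ← Ideal.mem_comap,
    Ideal.comap_map_of_surjective _ hsurj] at h2
  have hk : Ideal.comap (algebraMap (WittVector p k) A) ⊥ ≤ Ideal.span {(p : (WittVector p k)) ^ 2} := hker
  exact (sup_le_sup_left hk _ : coeffIdeal q ⊔ _ ≤ coeffIdeal q ⊔ _) h2

/-- The kernel of `F` on a fibre is the image of `V`. -/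
theorem comap_le_span_sup (hsurj : Function.Surjective (algebraMap (WittVector p k) A))
    (hker : RingHom.ker (algebraMap (WittVector p k) A) ≤ Ideal.span {(p : (WittVector p k)) ^ 2}) {q : Ideal k} (hq : q.IsRadical)
    {σ τ : (WittVector p k) →+* (WittVector p k)} (hτ : ∀ a ∈ (coeffIdeal (p := p) q), τ a ∈ (coeffIdeal (p := p) q)) (F : M →ₛₗ[σ] M) (G : M →ₛₗ[τ] M)
    (hGF : ∀ m : M, G (F m) = (p : (WittVector p k)) • m) {x : M} (hx : F x ∈ (zeroIdeal (p := p) q) • (⊤ : Submodule (WittVector p k) M)) :
    x ∈ Submodule.span (WittVector p k) (Set.range G) ⊔ (zeroIdeal (p := p) q) • (⊤ : Submodule (WittVector p k) M) := by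
  rw [zeroIdeal_eq, Submodule.sup_smul] at hx
  obtain ⟨w, hw, z, hz, e⟩ := Submodule.mem_sup.1 hx
  rw [Submodule.ideal_span_singleton_smul] at hz
  obtain ⟨z, -, rfl⟩ := (Submodule.mem_smul_pointwise_iff_exists _ _ _).1 hz
  have h1 : (p : (WittVector p k)) • (x - G z) ∈ (coeffIdeal (p := p) q) • (⊤ : Submodule (WittVector p k) M) := by
    have : (p : (WittVector p k)) • (x - G z) = G w := by
      rw [smul_sub, ← hGF, ← e, map_add, G.map_smulₛₗ, map_natCast, add_sub_cancel_right]
    rw [this]
    refine Submodule.smul_induction_on hw (fun a ha v _ => ?_) (fun a b ha hb => ?_)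
    · rw [G.map_smulₛₗ]; exact Submodule.smul_mem_smul (hτ a ha) trivial
    · rw [map_add]; exact add_mem ha hb
  exact Submodule.mem_sup.2 ⟨G z, Submodule.subset_span ⟨z, rfl⟩, x - G z,
    mem_zeroIdeal_smul hsurj hker hq h1, add_sub_cancel _ _⟩

variable (F : M →ₛₗ[(WittVector.frobenius : WittVector p k →+* WittVector p k)] M)
  (V : M →ₛₗ[((WittVector.frobeniusEquiv p k).symm : WittVector p k →+* WittVector p k)] M)

omit [PerfectRing k p] in
theorem isReduced_of_perfect (p : ℕ) [Fact p.Prime] [CharP k p] [PerfectRing k p] : IsReduced k :=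
  ⟨fun x ⟨n, hn⟩ => by
    have h := (iterateFrobeniusEquiv k p n).injective.eq_iff (a := x) (b := 0)
    rw [map_zero, iterateFrobeniusEquiv_def] at h
    exact h.1 (pow_eq_zero_of_le (Nat.lt_pow_self (Fact.out : p.Prime).one_lt).le hn)⟩

theorem isRadical_bot' [IsReduced k] : (⊥ : Ideal k).IsRadical := fun _ ⟨_, hn⟩ => IsNilpotent.eq_zero ⟨_, hn⟩

theorem zeroIdeal_bot : zeroIdeal (⊥ : Ideal k) = Ideal.span {(p : (WittVector p k))} := by
  ext x
  rw [WittVector.mem_span_p_iff_coeff_zero_eq_zero]
  rfl

theorem level_one (hsurj : Function.Surjective (algebraMap (WittVector p k) A))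
    (hker : RingHom.ker (algebraMap (WittVector p k) A) ≤ Ideal.span {(p : (WittVector p k)) ^ 2})
    (hFV : ∀ m : M, F (V m) = (p : (WittVector p k)) • m) (hVF : ∀ m : M, V (F m) = (p : (WittVector p k)) • m) :
    (Ideal.span {(p : (WittVector p k))} • (⊤ : Submodule (WittVector p k) M)).comap F = Submodule.span (WittVector p k) (Set.range V) ⊔ Ideal.span {(p : (WittVector p k))} • (⊤ : Submodule (WittVector p k) M) ∧
    (Ideal.span {(p : (WittVector p k))} • (⊤ : Submodule (WittVector p k) M)).comap V = Submodule.span (WittVector p k) (Set.range F) ⊔ Ideal.span {(p : (WittVector p k))} • (⊤ : Submodule (WittVector p k) M) := by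
  haveI : IsReduced k := isReduced_of_perfect p
  have hb := isRadical_bot' (k := k)
  have hmem : ∀ y : M, (p : (WittVector p k)) • y ∈ Ideal.span {(p : (WittVector p k))} • (⊤ : Submodule (WittVector p k) M) := fun y =>
    Submodule.smul_mem_smul (Ideal.mem_span_singleton_self _) trivial
  constructor <;> refine le_antisymm (fun x hx => ?_) (sup_le ?_ ?_)
  · rw [← zeroIdeal_bot] at hx ⊢
    exact comap_le_span_sup hsurj hker hb (fun a ha => symm_mem_coeffIdeal hb ha) F V hVF hx
  · rw [Submodule.span_le]; rintro _ ⟨m, rfl⟩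
    rw [SetLike.mem_coe, Submodule.mem_comap, hFV]; exact hmem m
  · intro x hx
    refine Submodule.smul_induction_on hx (fun a ha v _ => ?_) (fun a b ha hb => add_mem ha hb)
    obtain ⟨c, rfl⟩ := Ideal.mem_span_singleton'.1 ha
    rw [Submodule.mem_comap, F.map_smulₛₗ, map_mul, map_natCast, mul_smul]
    exact Submodule.smul_mem _ _ (hmem _)
  · rw [← zeroIdeal_bot] at hx ⊢
    exact comap_le_span_sup hsurj hker hb (fun a ha => frobenius_mem_coeffIdeal _ ha) V F hFV hx
  · rw [Submodule.span_le]; rintro _ ⟨m, rfl⟩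
    rw [SetLike.mem_coe, Submodule.mem_comap, hVF]; exact hmem m
  · intro x hx
    refine Submodule.smul_induction_on hx (fun a ha v _ => ?_) (fun a b ha hb => add_mem ha hb)
    obtain ⟨c, rfl⟩ := Ideal.mem_span_singleton'.1 ha
    rw [Submodule.mem_comap, V.map_smulₛₗ, map_mul, map_natCast, mul_smul]
    exact Submodule.smul_mem _ _ (hmem _)



set_option maxHeartbeats 1000000 in
theorem coker_projective (hsurj : Function.Surjective (algebraMap (WittVector p k) A))
    (hker : RingHom.ker (algebraMap (WittVector p k) A) ≤ Ideal.span {(p : (WittVector p k)) ^ 2})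
    (hFV : ∀ m : M, F (V m) = (p : (WittVector p k)) • m) (hVF : ∀ m : M, V (F m) = (p : (WittVector p k)) • m) :
    Module.Projective ((WittVector p k) ⧸ (Ideal.span {(p : WittVector p k)})) ((M ⧸ ((Ideal.span {(p : WittVector p k)}) • (⊤ : Submodule (WittVector p k) M))) ⧸
      Submodule.span ((WittVector p k) ⧸ (Ideal.span {(p : WittVector p k)})) (Set.range fun m : M => ((Ideal.span {(p : WittVector p k)}) • (⊤ : Submodule (WittVector p k) M)).mkQ (V m))) := by
  classical
  haveI : IsReduced k := isReduced_of_perfect p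
  haveI : IsReduced ((WittVector p k) ⧸ (Ideal.span {(p : WittVector p k)})) := isReduced_of_injective
    (WittVector.quotientPEquiv (p := p) (k := k)).toRingHom (WittVector.quotientPEquiv (p := p) (k := k)).injective
  set N := (Ideal.span {(p : WittVector p k)}) • (⊤ : Submodule (WittVector p k) M) with hN
  set U := Submodule.span ((WittVector p k) ⧸ (Ideal.span {(p : WittVector p k)})) (Set.range fun m : M => N.mkQ (V m))
  have hker1 : RingHom.ker (algebraMap (WittVector p k) A) ≤ (Ideal.span {(p : WittVector p k)}) :=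
    hker.trans (Ideal.span_singleton_le_span_singleton.2 (dvd_pow_self _ two_ne_zero))
  -- `M / pM` is a finite projective module
  have hW : Module.Finite (WittVector p k) M := by
    haveI : Module.Finite (WittVector p k) A := Module.Finite.of_surjective (Algebra.linearMap (WittVector p k) A) hsurj
    exact Module.Finite.trans A M
  haveI : Module.Finite ((WittVector p k) ⧸ (Ideal.span {(p : WittVector p k)})) (M ⧸ N) := Module.Finite.of_restrictScalars_finite (WittVector p k) _ _
  haveI : Module.Projective ((WittVector p k) ⧸ (Ideal.span {(p : WittVector p k)})) (M ⧸ N) := by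
    obtain ⟨n, π, σ', hπ, -, hπσ⟩ := Module.Finite.exists_comp_eq_id_of_projective A M
    choose lift hlift using hsurj
    let red : A → (WittVector p k) ⧸ (Ideal.span {(p : WittVector p k)}) := fun a => Ideal.Quotient.mk (Ideal.span {(p : WittVector p k)}) (lift a)
    have hred : ∀ (a : A) (c : (WittVector p k)), algebraMap (WittVector p k) A c = a → red a = Ideal.Quotient.mk (Ideal.span {(p : WittVector p k)}) c := fun a c h =>
      Ideal.Quotient.eq.2 (hker1 (by rw [RingHom.mem_ker, map_sub, hlift, h, sub_self]))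
    have hredadd : ∀ a b, red (a + b) = red a + red b := fun a b => by
      rw [hred (a + b) (lift a + lift b) (by rw [map_add, hlift, hlift]), map_add]
    have hredsmul : ∀ (c : (WittVector p k)) a, red (c • a) = Ideal.Quotient.mk (Ideal.span {(p : WittVector p k)}) c * red a := fun c a => by
      rw [hred (c • a) (c * lift a) (by rw [map_mul, hlift, Algebra.smul_def]), map_mul]
    let s0 : M →ₗ[(WittVector p k)] (Fin n → (WittVector p k) ⧸ (Ideal.span {(p : WittVector p k)})) :=
      { toFun := fun x l => red (σ' x l)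
        map_add' := fun x y => funext fun l => by rw [map_add, Pi.add_apply, hredadd]; rfl
        map_smul' := fun c x => funext fun l => by
          rw [← algebraMap_smul A c x, map_smul, Pi.smul_apply, algebraMap_smul, hredsmul]
          rfl }
    have hs0 : N ≤ LinearMap.ker s0 := fun x hx => by
      refine Submodule.smul_induction_on hx (fun a ha v _ => ?_) (fun a b ha hb => add_mem ha hb)
      rw [LinearMap.mem_ker, map_smul]
      funext l
      rw [Pi.smul_apply, Algebra.smul_def, Ideal.Quotient.algebraMap_eq, Ideal.Quotient.eq_zero_iff_mem.2 ha, zero_mul]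
      rfl
    let sW := N.liftQ s0 hs0
    let sR : (M ⧸ N) →ₗ[(WittVector p k) ⧸ (Ideal.span {(p : WittVector p k)})] (Fin n → (WittVector p k) ⧸ (Ideal.span {(p : WittVector p k)})) := LinearMap.extendScalarsOfSurjective Ideal.Quotient.mk_surjective sW
    let t : (Fin n → (WittVector p k) ⧸ (Ideal.span {(p : WittVector p k)})) →ₗ[(WittVector p k) ⧸ (Ideal.span {(p : WittVector p k)})] (M ⧸ N) := Fintype.linearCombination ((WittVector p k) ⧸ (Ideal.span {(p : WittVector p k)})) fun l => N.mkQ (π (Pi.single l 1))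
    refine Module.Projective.of_split sR t (LinearMap.ext fun v => ?_)
    obtain ⟨x, rfl⟩ := Submodule.Quotient.mk_surjective _ v
    show Fintype.linearCombination ((WittVector p k) ⧸ (Ideal.span {(p : WittVector p k)})) _ (fun l => red (σ' x l)) = _
    rw [Fintype.linearCombination_apply, LinearMap.id_apply, ← Submodule.mkQ_apply]
    conv_rhs => rw [show x = π (σ' x) from (DFunLike.congr_fun hπσ x).symm, LinearMap.pi_apply_eq_sum_univ π, map_sum]
    refine Finset.sum_congr rfl fun l _ => ?_
    rw [show (fun j => if l = j then (1 : A) else 0) = Pi.single l 1 from funext fun j => by simp [Pi.single_apply, eq_comm]]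
    show _ = N.mkQ (σ' x l • π (Pi.single l 1))
    rw [show σ' x l • π (Pi.single l 1) = lift (σ' x l) • π (Pi.single l 1) by
      rw [← algebraMap_smul A (lift (σ' x l)), hlift], map_smul]
    exact algebraMap_smul ((WittVector p k) ⧸ (Ideal.span {(p : WittVector p k)})) _ _
  haveI : Module.FinitePresentation ((WittVector p k) ⧸ (Ideal.span {(p : WittVector p k)})) (M ⧸ N) := Module.finitePresentation_of_projective _ _
  have hUW : ∀ v : M, N.mkQ v ∈ U ↔ v ∈ Submodule.span (WittVector p k) (Set.range V) ⊔ N := fun v => by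
    have h : U.restrictScalars (WittVector p k) = (Submodule.span (WittVector p k) (Set.range V)).map N.mkQ := by
      rw [Submodule.map_span, ← Set.range_comp, ← Submodule.restrictScalars_span (WittVector p k) ((WittVector p k) ⧸ (Ideal.span {(p : WittVector p k)})) Ideal.Quotient.mk_surjective]
      rfl
    rw [← Submodule.restrictScalars_mem (WittVector p k) U, h, ← Submodule.mem_comap, Submodule.comap_map_mkQ, sup_comm]
  haveI : Module.FinitePresentation ((WittVector p k) ⧸ (Ideal.span {(p : WittVector p k)})) ((M ⧸ N) ⧸ U) := by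
    refine Module.finitePresentation_of_surjective U.mkQ (Submodule.mkQ_surjective _) ?_
    rw [Submodule.ker_mkQ]
    obtain ⟨s, hs⟩ := hW.fg_top
    refine Submodule.fg_def.2 ⟨(fun m => N.mkQ (V m)) '' (s : Set M), s.finite_toSet.image _,
      le_antisymm (Submodule.span_mono (Set.image_subset_range _ _)) (Submodule.span_le.2 ?_)⟩
    rintro _ ⟨m, rfl⟩
    have hm : m ∈ Submodule.span (WittVector p k) (s : Set M) := hs ▸ trivial
    induction hm using Submodule.span_induction with
    | mem a ha => exact Submodule.subset_span ⟨a, ha, rfl⟩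
    | zero => simp
    | add a b _ _ ha hb => simp only [map_add]; exact add_mem ha hb
    | smul c a _ ha =>
      simp only [V.map_smulₛₗ, map_smul]
      rw [← algebraMap_smul ((WittVector p k) ⧸ (Ideal.span {(p : WittVector p k)}))]
      exact Submodule.smul_mem _ _ ha
  obtain ⟨lone, -⟩ := level_one F V hsurj hker hFV hVF
  have hwell : ∀ x y : M, U.mkQ (N.mkQ x) = U.mkQ (N.mkQ y) → N.mkQ (F x) = N.mkQ (F y) := fun x y h => by
    rw [← sub_eq_zero, ← map_sub, ← map_sub, Submodule.mkQ_apply, Submodule.Quotient.mk_eq_zero, hUW, hN, ← lone] at h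
    rw [← sub_eq_zero, ← map_sub, ← map_sub, Submodule.mkQ_apply, Submodule.Quotient.mk_eq_zero]
    exact h
  have hπ' : Function.Surjective fun x : M => U.mkQ (N.mkQ x) :=
    (Submodule.mkQ_surjective U).comp (Submodule.mkQ_surjective N)
  choose rep hrep using hπ'
  replace hrep : ∀ v, U.mkQ (N.mkQ (rep v)) = v := hrep
  let f : ((M ⧸ N) ⧸ U) →+ (M ⧸ N) := AddMonoidHom.mk' (fun v => N.mkQ (F (rep v))) fun a b => by
    show N.mkQ (F (rep (a + b))) = N.mkQ (F (rep a)) + N.mkQ (F (rep b))
    rw [← map_add, ← map_add F]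
    exact hwell _ _ (by simp only [map_add]; rw [hrep, hrep, hrep])
  have hfrob : ∀ c : (WittVector p k), Ideal.Quotient.mk (Ideal.span {(p : WittVector p k)}) (WittVector.frobenius c) = Ideal.Quotient.mk (Ideal.span {(p : WittVector p k)}) c ^ p := fun c => by
    rw [← map_pow, Ideal.Quotient.eq, WittVector.mem_span_p_iff_coeff_zero_eq_zero]
    show WittVector.constantCoeff (WittVector.frobenius c - c ^ p) = 0
    rw [map_sub, map_pow]
    exact sub_eq_zero.2 (WittVector.coeff_frobenius_charP p c 0)
  refine projective_of_semilinear (p := p) (Fact.out : p.Prime).pos (fun a => ?_) f (fun a v => ?_) (fun 𝔪 h𝔪 v hv => ?_)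
  · obtain ⟨c, rfl⟩ := Ideal.Quotient.mk_surjective a
    exact ⟨Ideal.Quotient.mk (Ideal.span {(p : WittVector p k)}) ((WittVector.frobeniusEquiv p k).symm c), by
      rw [← hfrob, ← WittVector.frobeniusEquiv_apply, RingEquiv.apply_symm_apply]⟩
  · obtain ⟨c, rfl⟩ := Ideal.Quotient.mk_surjective a
    show N.mkQ (F (rep (Ideal.Quotient.mk (Ideal.span {(p : WittVector p k)}) c • v))) = _ • N.mkQ (F (rep v))
    rw [hwell (rep (Ideal.Quotient.mk (Ideal.span {(p : WittVector p k)}) c • v)) (c • rep v) (by
      rw [hrep, map_smul, ← algebraMap_smul ((WittVector p k) ⧸ (Ideal.span {(p : WittVector p k)})) c, map_smul, hrep]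
      rfl), F.map_smulₛₗ, map_smul, ← hfrob]
    exact (algebraMap_smul ((WittVector p k) ⧸ (Ideal.span {(p : WittVector p k)})) _ _).symm
  · let e := WittVector.quotientPEquiv (p := p) (k := k)
    let q : Ideal k := 𝔪.comap e.symm.toRingHom
    have hq : q.IsRadical := (Ideal.IsPrime.comap _ (hK := h𝔪.isPrime)).isRadical
    have hqmem : ∀ c : (WittVector p k), c ∈ zeroIdeal q ↔ Ideal.Quotient.mk (Ideal.span {(p : WittVector p k)}) c ∈ 𝔪 := fun c => by
      show e.symm (c.coeff 0) ∈ 𝔪 ↔ _
      rw [show c.coeff 0 = e (Ideal.Quotient.mk (Ideal.span {(p : WittVector p k)}) c) from rfl, e.symm_apply_apply]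
    have hpull : ∀ y : M ⧸ N, y ∈ 𝔪 • (⊤ : Submodule ((WittVector p k) ⧸ (Ideal.span {(p : WittVector p k)})) (M ⧸ N)) →
        ∃ x ∈ zeroIdeal q • (⊤ : Submodule (WittVector p k) M), N.mkQ x = y := fun y hy => by
      refine Submodule.smul_induction_on hy (fun a ha z _ => ?_) ?_
      · obtain ⟨c, rfl⟩ := Ideal.Quotient.mk_surjective a
        obtain ⟨z, rfl⟩ := Submodule.Quotient.mk_surjective _ z
        exact ⟨c • z, Submodule.smul_mem_smul ((hqmem c).2 ha) trivial, by
          rw [map_smul]; exact (algebraMap_smul ((WittVector p k) ⧸ (Ideal.span {(p : WittVector p k)})) c _).symm⟩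
      · rintro a b ⟨x, hx, rfl⟩ ⟨y, hy, rfl⟩
        exact ⟨x + y, add_mem hx hy, map_add _ _ _⟩
    obtain ⟨x, hx, hxe⟩ := hpull _ hv
    have hx' : F (rep v) ∈ zeroIdeal (p := p) q • (⊤ : Submodule (WittVector p k) M) := by
      have hdiff : F (rep v) - x ∈ N := (Submodule.Quotient.eq N).1 hxe.symm
      have hle : N ≤ zeroIdeal q • (⊤ : Submodule (WittVector p k) M) := Submodule.smul_mono_left (by rw [zeroIdeal_eq]; exact le_sup_right)
      simpa using add_mem (hle hdiff) hx
    have h1 := comap_le_span_sup hsurj hker hq (fun a ha => symm_mem_coeffIdeal hq ha) F V hVF hx'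
    obtain ⟨y, hy, z, hz, hyz⟩ := Submodule.mem_sup.1 h1
    rw [← hrep v, ← hyz]
    simp only [map_add]
    rw [show U.mkQ (N.mkQ y) = 0 from (Submodule.Quotient.mk_eq_zero U).2 ((hUW y).2 (Submodule.mem_sup_left hy)), zero_add]
    refine Submodule.smul_induction_on hz (fun a ha w _ => ?_) (fun a b ha hb => ?_)
    · rw [map_smul, ← algebraMap_smul ((WittVector p k) ⧸ (Ideal.span {(p : WittVector p k)})) a, map_smul]
      exact Submodule.smul_mem_smul ((hqmem a).1 ha) trivial
    · simp only [map_add]; exact add_mem ha hb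

end Groth.Agent.DispLift
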