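import Mathlib

/-!
# Lifting homomorphisms of F-crystals along nil thickenings (Witt vectors)
-/

set_option autoImplicit false
noncomputable section

universe u v w z

open MvPolynomial

namespace Groth.Agent.DispLift

variable {p : ℕ} [Fact p.Prime] {S : Type u} [CommRing S]

theorem constantCoeff_frobeniusPolyAux (n : ℕ) : constantCoeff (WittVector.frobeniusPolyAux p n) = 0 := by
  have h := WittVector.coeff_frobenius (p := p) (0 : WittVector p ℤ) n
  have h0 : (0 : WittVector p ℤ).coeff = (fun _ => (0 : ℤ)) := funext (WittVector.zero_coeff p ℤ)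
  rw [map_zero, WittVector.zero_coeff, WittVector.frobeniusPoly, h0] at h
  simp only [map_add, map_pow, aeval_X, map_mul, aeval_C, zero_pow (Fact.out : p.Prime).ne_zero, zero_add] at h
  have h1 : aeval (fun _ : ℕ => (0 : ℤ)) (WittVector.frobeniusPolyAux p n) = 0 := by
    rcases mul_eq_zero.1 h.symm with h | h
    · exact absurd h (by simp [(Fact.out : p.Prime).ne_zero])
    · exact h
  simpa [aeval_zero'] using h1

theorem frobenius_coeff_sub_mem (I : Ideal S) (x : WittVector p S) (hx : ∀ i, x.coeff i ∈ I) (n : ℕ) :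
    (WittVector.frobenius x).coeff n - x.coeff n ^ p ∈ Ideal.span {(p : S)} * I := by
  rw [WittVector.coeff_frobenius, WittVector.frobeniusPoly, map_add, map_pow, aeval_X, add_sub_cancel_left, map_mul]
  refine Ideal.mul_mem_mul (by simp [Ideal.mem_span_singleton_self]) ?_
  rw [← Ideal.Quotient.eq_zero_iff_mem, map_aeval]
  have : (fun i => Ideal.Quotient.mk I (x.coeff i)) = 0 := funext fun i => Ideal.Quotient.eq_zero_iff_mem.2 (hx i)
  rw [this, eval₂Hom_zero_apply, constantCoeff_frobeniusPolyAux, map_zero]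

theorem exists_iterate_frobenius_eq_zero {R : Type u} [CommRing R] (φ : S →+* R) (hp : IsNilpotent (p : S)) (N : ℕ)
    (hN : ∀ a : S, φ a = 0 → a ^ N = 0) :
    ∃ m, ∀ x ∈ RingHom.ker (WittVector.map (p := p) φ), (⇑(WittVector.frobenius (p := p) (R := S)))^[m] x = 0 := by
  have hpr := (Fact.out : p.Prime)
  obtain ⟨e, he⟩ := hp
  set K := RingHom.ker φ
  set P := Ideal.span {(p : S)}
  refine ⟨N + e, fun x hx => ?_⟩
  have hxK : ∀ i, x.coeff i ∈ K := fun i => by
    have := congrArg (fun w : WittVector p R => w.coeff i) hx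
    simpa [K, WittVector.map_coeff] using this
  have hA : ∀ t i, ((⇑(WittVector.frobenius (p := p) (R := S)))^[t] x).coeff i - x.coeff i ^ p ^ t ∈ P * K := by
    intro t
    induction t with
    | zero => simp
    | succ t ih =>
      intro i
      rw [Function.iterate_succ_apply']
      set y := (⇑(WittVector.frobenius (p := p) (R := S)))^[t] x
      have hy : ∀ j, y.coeff j ∈ K := fun j => by
        have h1 := Ideal.mul_le_right (I := P) (J := K) (ih j)
        have h2 : x.coeff j ^ p ^ t ∈ K := Ideal.pow_mem_of_mem _ (hxK j) _ (pow_pos hpr.pos t)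
        simpa using K.add_mem h1 h2
      have h1 := frobenius_coeff_sub_mem K y hy i
      have h2 : y.coeff i ^ p - (x.coeff i ^ p ^ t) ^ p ∈ P * K :=
        Ideal.mem_of_dvd _ (sub_dvd_pow_sub_pow _ _ p) (ih i)
      rw [← pow_mul, ← pow_succ] at h2
      simpa using add_mem h1 h2
  have hB : ∀ j i, ((⇑(WittVector.frobenius (p := p) (R := S)))^[N + j] x).coeff i ∈ P ^ (j + 1) * K := by
    intro j
    induction j with
    | zero =>
      intro i
      have := hA N i
      rw [show x.coeff i ^ p ^ N = 0 from pow_eq_zero_of_le (Nat.lt_pow_self hpr.one_lt).le (hN _ (hxK i)), sub_zero] at this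
      simpa using this
    | succ j ih =>
      intro i
      rw [← add_assoc, Function.iterate_succ_apply']
      set y := (⇑(WittVector.frobenius (p := p) (R := S)))^[N + j] x
      have h1 := frobenius_coeff_sub_mem (P ^ (j + 1) * K) y ih i
      rw [← mul_assoc, ← pow_succ'] at h1
      have h2 : y.coeff i ^ p ∈ P ^ (j + 1 + 1) * K := by
        obtain ⟨q, hq⟩ : ∃ q, p = q + 1 + 1 := ⟨p - 2, by have := hpr.two_le; omega⟩
        rw [show y.coeff i ^ p = y.coeff i ^ q * (y.coeff i * y.coeff i) by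
          rw [← mul_assoc, ← pow_succ, ← pow_succ]; exact congrArg _ hq]
        refine Ideal.mul_mem_left _ _ ?_
        have hle : (P ^ (j + 1) * K) * (P ^ (j + 1) * K) ≤ P ^ (j + 1 + 1) * K := by
          calc (P ^ (j + 1) * K) * (P ^ (j + 1) * K) ≤ (P ^ (j + 1) * K) * P :=
                Ideal.mul_mono le_rfl (Ideal.mul_le_left.trans (Ideal.pow_le_self (Nat.succ_ne_zero j)))
            _ = P ^ (j + 1 + 1) * K := by rw [pow_succ P (j + 1)]; ring
        exact hle (Ideal.mul_mem_mul (ih i) (ih i))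
      simpa using add_mem h1 h2
  refine WittVector.ext fun i => ?_
  have := hB e i
  rw [pow_succ, Ideal.span_singleton_pow, he] at this
  simpa [Ideal.span_singleton_eq_bot.2 rfl] using this

theorem frobenius_mem_ker {R : Type u} [CommRing R] (φ : S →+* R) {x : WittVector p S}
    (hx : x ∈ RingHom.ker (WittVector.map (p := p) φ)) : WittVector.frobenius x ∈ RingHom.ker (WittVector.map (p := p) φ) := by
  have h : ∀ i, φ (x.coeff i) = 0 := fun i => by
    simpa [WittVector.map_coeff] using congrArg (fun w : WittVector p R => w.coeff i) hx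
  refine WittVector.ext fun n => ?_
  rw [WittVector.map_coeff, WittVector.zero_coeff]
  have h1 := Ideal.mul_le_right (I := Ideal.span {(p : S)}) (J := RingHom.ker φ) (frobenius_coeff_sub_mem (RingHom.ker φ) x h n)
  rw [RingHom.mem_ker, map_sub, map_pow, h n, zero_pow (Fact.out : p.Prime).ne_zero, sub_zero] at h1
  exact h1

section Crystal

variable {A : Type u} [CommRing A] {σ : A →+* A} {P₁ : Type v} [AddCommGroup P₁] [Module A P₁] {P₂ : Type w}
  [AddCommGroup P₂] [Module A P₂] {ι : Type z} (b : Module.Basis ι A P₁) (F₁ : P₁ →ₛₗ[σ] P₁) (F₂ : P₂ →ₛₗ[σ] P₂)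
  (hF₁ : LinearIndependent A (fun i => F₁ (b i)) ∧ Submodule.span A (Set.range fun i => F₁ (b i)) = ⊤)

/-- The basis `F₁ b_i`. -/
def fBasis : Module.Basis ι A P₁ := Module.Basis.mk hF₁.1 hF₁.2.ge

/-- The operator `β ↦ F₂ β F₁⁻¹`. -/
def op (β : P₁ →ₗ[A] P₂) : P₁ →ₗ[A] P₂ := (fBasis b F₁ hF₁).constr ℕ fun i => F₂ (β (b i))

theorem op_apply_F (β : P₁ →ₗ[A] P₂) (x : P₁) : op b F₁ F₂ hF₁ β (F₁ x) = F₂ (β x) := by
  have : (op b F₁ F₂ hF₁ β).comp F₁ = F₂.comp β := b.ext fun i => by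
    show op b F₁ F₂ hF₁ β (F₁ (b i)) = F₂ (β (b i))
    rw [← show fBasis b F₁ hF₁ i = F₁ (b i) from Module.Basis.mk_apply _ _ i, op, Module.Basis.constr_basis]
  exact DFunLike.congr_fun this x

theorem op_eq_iff (α : P₁ →ₗ[A] P₂) : op b F₁ F₂ hF₁ α = α ↔ ∀ x, F₂ (α x) = α (F₁ x) := by
  refine ⟨fun h x => by rw [← op_apply_F b F₁ F₂ hF₁ α x, h], fun h => (fBasis b F₁ hF₁).ext fun i => ?_⟩
  rw [show fBasis b F₁ hF₁ i = F₁ (b i) from Module.Basis.mk_apply _ _ i, op_apply_F, h]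

theorem op_add (α β : P₁ →ₗ[A] P₂) : op b F₁ F₂ hF₁ (α + β) = op b F₁ F₂ hF₁ α + op b F₁ F₂ hF₁ β :=
  (fBasis b F₁ hF₁).ext fun i => by simp [op]

theorem mem_smul_top_of_semilinear {J J' : Ideal A} (h : ∀ a ∈ J, σ a ∈ J') {y : P₂}
    (hy : y ∈ J • (⊤ : Submodule A P₂)) : F₂ y ∈ J' • (⊤ : Submodule A P₂) := by
  refine Submodule.smul_induction_on hy (fun a ha z _ => ?_) (fun a c ha hc => ?_)
  · rw [F₂.map_smulₛₗ]; exact Submodule.smul_mem_smul (h a ha) trivial
  · rw [map_add]; exact add_mem ha hc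

theorem range_op {J J' : Ideal A} (h : ∀ a ∈ J, σ a ∈ J') {β : P₁ →ₗ[A] P₂}
    (hβ : ∀ x, β x ∈ J • (⊤ : Submodule A P₂)) (x : P₁) : op b F₁ F₂ hF₁ β x ∈ J' • (⊤ : Submodule A P₂) := by
  rw [op, Module.Basis.constr_apply]
  exact Submodule.sum_mem _ fun i _ => Submodule.smul_mem _ _ (mem_smul_top_of_semilinear F₂ h (hβ (b i)))

include hF₁ in
theorem existsUnique_lift (c : Ideal A) (hc : ∀ a ∈ c, σ a ∈ c) (m : ℕ) (hm : ∀ a ∈ c, (⇑σ)^[m] a = 0)
    (α₀ : P₁ →ₗ[A] P₂) (hα₀ : ∀ x, F₂ (α₀ x) - α₀ (F₁ x) ∈ c • (⊤ : Submodule A P₂)) :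
    ∃! α : P₁ →ₗ[A] P₂, (∀ x, α x - α₀ x ∈ c • (⊤ : Submodule A P₂)) ∧ ∀ x, F₂ (α x) = α (F₁ x) := by
  classical
  set Φ := op b F₁ F₂ hF₁
  let J : ℕ → Ideal A := fun t => Ideal.span ((⇑σ)^[t] '' (c : Set A))
  have hJ : ∀ t, ∀ a ∈ J t, σ a ∈ J (t + 1) := fun t a ha => by
    refine Submodule.span_induction (fun y hy => ?_) (by simp) (fun y z _ _ hy hz => ?_) (fun r y _ hy => ?_) ha
    · obtain ⟨w, hw, rfl⟩ := hy
      exact Ideal.subset_span ⟨w, hw, Function.iterate_succ_apply' _ _ _⟩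
    · rw [map_add]; exact add_mem hy hz
    · rw [smul_eq_mul, map_mul]; exact Ideal.mul_mem_left _ _ hy
  have hit : ∀ t (β : P₁ →ₗ[A] P₂), (∀ x, β x ∈ c • (⊤ : Submodule A P₂)) →
      (∀ x, (Φ^[t] β) x ∈ J t • (⊤ : Submodule A P₂)) ∧ ∀ x, (Φ^[t] β) x ∈ c • (⊤ : Submodule A P₂) := by
    intro t
    induction t with
    | zero => intro β hβ; simp [J, Ideal.span_eq]; exact hβ
    | succ t ih =>
      intro β hβ
      rw [Function.iterate_succ_apply']
      exact ⟨range_op b F₁ F₂ hF₁ (hJ t) (ih β hβ).1, range_op b F₁ F₂ hF₁ hc (ih β hβ).2⟩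
  have hzero : ∀ β : P₁ →ₗ[A] P₂, (∀ x, β x ∈ c • (⊤ : Submodule A P₂)) → Φ^[m] β = 0 := fun β hβ => by
    have h0 : J m = ⊥ := Ideal.span_eq_bot.2 fun a ⟨w, hw, e⟩ => e ▸ hm w hw
    exact LinearMap.ext fun x => by simpa [h0] using (hit m β hβ).1 x
  let Φ' : (P₁ →ₗ[A] P₂) →+ (P₁ →ₗ[A] P₂) := AddMonoidHom.mk' Φ (op_add b F₁ F₂ hF₁)
  set δ := Φ α₀ - α₀
  have hδ : ∀ x, δ x ∈ c • (⊤ : Submodule A P₂) := by
    intro x
    have : Submodule.span A (Set.range fun i => F₁ (b i)) ≤ Submodule.comap δ (c • (⊤ : Submodule A P₂)) := by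
      rw [Submodule.span_le]
      rintro _ ⟨i, rfl⟩
      show Φ α₀ (F₁ (b i)) - α₀ (F₁ (b i)) ∈ c • (⊤ : Submodule A P₂)
      rw [op_apply_F]
      exact hα₀ (b i)
    exact this (hF₁.2 ▸ trivial)
  refine ⟨α₀ + ∑ t ∈ Finset.range m, Φ^[t] δ, ⟨fun x => ?_, (op_eq_iff b F₁ F₂ hF₁ _).1 ?_⟩, fun α hα => ?_⟩
  · rw [LinearMap.add_apply, add_sub_cancel_left, LinearMap.sum_apply]
    exact Submodule.sum_mem _ fun t _ => (hit t δ hδ).2 x
  · show Φ' _ = _
    rw [map_add, map_sum]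
    have e1 := Finset.sum_range_succ' (fun t => Φ^[t] δ) m
    rw [Finset.sum_range_succ, hzero δ hδ, add_zero, Function.iterate_zero_apply] at e1
    rw [e1]
    have : ∀ t, Φ' (Φ^[t] δ) = Φ^[t + 1] δ := fun t => (Function.iterate_succ_apply' Φ t δ).symm
    simp only [this]
    show Φ α₀ + _ = _
    simp only [δ]
    abel
  · set α' : P₁ →ₗ[A] P₂ := α₀ + ∑ t ∈ Finset.range m, Φ^[t] δ
    have hα' : Φ α' = α' := by
      show Φ' _ = _
      rw [map_add, map_sum]
      have e1 := Finset.sum_range_succ' (fun t => Φ^[t] δ) m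
      rw [Finset.sum_range_succ, hzero δ hδ, add_zero, Function.iterate_zero_apply] at e1
      have : ∀ t, Φ' (Φ^[t] δ) = Φ^[t + 1] δ := fun t => (Function.iterate_succ_apply' Φ t δ).symm
      simp only [this, α']
      rw [e1]
      show Φ α₀ + _ = _
      simp only [δ]
      abel
    have hd : Φ (α - α') = α - α' := by
      show Φ' _ = _
      rw [map_sub]
      show Φ α - Φ α' = _
      rw [show Φ α = α from (op_eq_iff b F₁ F₂ hF₁ α).2 hα.2, hα']
    have := hzero (α - α') fun x => by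
      have e : (α - α') x = (α x - α₀ x) - ∑ t ∈ Finset.range m, (Φ^[t] δ) x := by
        simp [α', LinearMap.sum_apply]; abel
      rw [e]
      exact sub_mem (hα.1 x) (Submodule.sum_mem _ fun t _ => (hit t δ hδ).2 x)
    rw [Function.iterate_fixed hd] at this
    exact sub_eq_zero.1 this

end Crystal

end Groth.Agent.DispLift
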