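import Mathlib

/-!
# Projectivity from a p-linear map with injective fibres
-/

set_option autoImplicit false
noncomputable section

universe u v w

namespace Groth.Agent.DispLift

variable {R : Type u} [CommRing R] [IsReduced R] {p : ℕ} {Q : Type v} [AddCommGroup Q] [Module R Q]
  {P : Type w} [AddCommGroup P] [Module R P] [Module.Finite R P] [Module.Projective R P]

theorem projective_of_semilinear [Module.FinitePresentation R Q] (hp : 0 < p) (hsurj : ∀ a : R, ∃ b, b ^ p = a)
    (f : Q →+ P) (hf : ∀ (a : R) (x : Q), f (a • x) = a ^ p • f x)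
    (key : ∀ q : Ideal R, q.IsMaximal → ∀ x, f x ∈ q • (⊤ : Submodule R P) → x ∈ q • (⊤ : Submodule R Q)) :
    Module.Projective R Q := by
  classical
  refine Module.projective_of_localization_maximal (fun q hq => ?_)
  haveI := hq
  obtain ⟨n, π, σ', hπ, -, hπσ⟩ := Module.Finite.exists_comp_eq_id_of_projective R P
  let g : Fin n → P →ₗ[R] R := fun l => (LinearMap.proj l).comp σ'
  have hg : ∀ x : P, (∀ l, g l x ∈ q) → x ∈ q • (⊤ : Submodule R P) := fun x hx => by
    have : x = π (σ' x) := (DFunLike.congr_fun hπσ x).symm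
    rw [this, LinearMap.pi_apply_eq_sum_univ π]
    exact Submodule.sum_mem _ fun l _ => Submodule.smul_mem_smul (hx l) trivial
  haveI : IsScalarTower R (R ⧸ q) (Q ⧸ q • (⊤ : Submodule R Q)) := inferInstance
  letI : Field (R ⧸ q) := Ideal.Quotient.field q
  haveI : Module.Finite (R ⧸ q) (Q ⧸ q • (⊤ : Submodule R Q)) := Module.Finite.of_restrictScalars_finite R _ _
  let bb := Module.finBasis (R ⧸ q) (Q ⧸ q • (⊤ : Submodule R Q))
  set r := Module.finrank (R ⧸ q) (Q ⧸ q • (⊤ : Submodule R Q))
  choose e he using fun i : Fin r => Submodule.Quotient.mk_surjective _ (bb i)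
  let A : Matrix (Fin r) (Fin n) (R ⧸ q) := fun i l => Ideal.Quotient.mk q (g l (f (e i)))
  have hA : LinearIndependent (R ⧸ q) A.row := by
    rw [Fintype.linearIndependent_iff]
    intro c hc
    have hlift : ∀ i, ∃ d : R, Ideal.Quotient.mk q (d ^ p) = c i := fun i => by
      obtain ⟨a, ha⟩ := Ideal.Quotient.mk_surjective (c i)
      obtain ⟨d, hd⟩ := hsurj a
      exact ⟨d, by rw [hd, ha]⟩
    choose d hd using hlift
    have hv : f (∑ i, d i • e i) ∈ q • (⊤ : Submodule R P) := hg _ fun l => by
      rw [← Ideal.Quotient.eq_zero_iff_mem, map_sum, map_sum, map_sum]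
      have := congrFun hc l
      simp only [Finset.sum_apply, Pi.smul_apply, smul_eq_mul, Pi.zero_apply, Matrix.row, A] at this
      rw [← this]
      refine Finset.sum_congr rfl fun i _ => ?_
      rw [hf, map_smul, smul_eq_mul, map_mul, hd]
    have hz : ∑ i, Ideal.Quotient.mk q (d i) • bb i = 0 := by
      have := (Submodule.Quotient.mk_eq_zero _).2 (key q hq _ hv)
      rw [← Submodule.mkQ_apply, map_sum] at this
      rw [← this]
      refine Finset.sum_congr rfl fun i _ => ?_
      rw [map_smul, Submodule.mkQ_apply, he]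
      exact algebraMap_smul (R ⧸ q) (d i) (bb i)
    intro i
    rw [← hd, map_pow, Fintype.linearIndependent_iff.1 bb.linearIndependent _ hz i, zero_pow hp.ne']
  obtain ⟨B, hB⟩ : ∃ B : Matrix (Fin n) (Fin r) (R ⧸ q), A * B = 1 := by
    have h1 : Function.Injective A.vecMulLinear := Matrix.vecMul_injective_iff.2 hA
    obtain ⟨L, hL⟩ := A.vecMulLinear.exists_leftInverse_of_injective (LinearMap.ker_eq_bot.2 h1)
    refine ⟨(LinearMap.toMatrix' L).transpose, ?_⟩
    refine Matrix.ext fun i j => ?_
    have h2 := DFunLike.congr_fun hL (Pi.single i 1)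
    simp only [LinearMap.comp_apply, Matrix.vecMulLinear_apply, Matrix.single_one_vecMul, LinearMap.id_apply] at h2
    have h3 := congrFun h2 j
    rw [← LinearMap.toMatrix'_mulVec] at h3
    rw [Matrix.mul_apply, Matrix.one_apply]
    simp only [Matrix.mulVec, dotProduct, Pi.single_apply] at h3
    simp only [Matrix.transpose_apply]
    rw [show (if i = j then (1 : R ⧸ q) else 0) = if j = i then 1 else 0 by simp [eq_comm], ← h3]
    exact Finset.sum_congr rfl fun l _ => mul_comm _ _
  choose B' hB' using fun l j => Ideal.Quotient.mk_surjective (B l j)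
  let g' : Fin r → P →ₗ[R] R := fun j => ∑ l, B' l j • g l
  let D : Matrix (Fin r) (Fin r) R := fun i j => g' j (f (e i))
  have hD : D.det ∈ q.primeCompl := by
    intro h
    have h1 : (Ideal.Quotient.mk q).mapMatrix D = 1 := by
      rw [← hB]
      refine Matrix.ext fun i j => ?_
      simp only [RingHom.mapMatrix_apply, Matrix.map_apply, D, g', LinearMap.sum_apply, LinearMap.smul_apply,
        smul_eq_mul, map_sum, map_mul, Matrix.mul_apply, hB', A]
      exact Finset.sum_congr rfl fun l _ => mul_comm _ _
    have h2 := RingHom.map_det (Ideal.Quotient.mk q) D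
    rw [h1, Matrix.det_one, Ideal.Quotient.eq_zero_iff_mem.2 h] at h2
    exact zero_ne_one h2
  obtain ⟨s, hs, hsQ⟩ : ∃ s ∈ q.primeCompl, ∀ x : Q, s • x ∈ Submodule.span R (Set.range e) := by
    set N := Submodule.span R (Set.range e)
    have hle : (⊤ : Submodule R (Q ⧸ N)) ≤ q • (⊤ : Submodule R (Q ⧸ N)) := by
      intro y _
      obtain ⟨x, rfl⟩ := Submodule.Quotient.mk_surjective _ y
      choose a ha using fun i => Ideal.Quotient.mk_surjective (bb.repr (Submodule.Quotient.mk x) i)
      have hx : x - ∑ i, a i • e i ∈ q • (⊤ : Submodule R Q) := by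
        rw [← Submodule.Quotient.eq]
        show _ = (q • (⊤ : Submodule R Q)).mkQ (∑ i, a i • e i)
        rw [map_sum]
        conv_lhs => rw [← bb.sum_repr (Submodule.Quotient.mk x)]
        refine Finset.sum_congr rfl fun i _ => ?_
        rw [map_smul, Submodule.mkQ_apply, he, ← ha]
        exact algebraMap_smul (R ⧸ q) (a i) (bb i)
      have h2 := Submodule.mem_map_of_mem (f := N.mkQ) hx
      rw [Submodule.map_smul'', map_sub, Submodule.mkQ_apply, Submodule.mkQ_apply,
        (Submodule.Quotient.mk_eq_zero N).2 (Submodule.sum_mem _ fun i _ => Submodule.smul_mem _ _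
          (Submodule.subset_span ⟨i, rfl⟩)), sub_zero] at h2
      exact Submodule.smul_mono le_rfl le_top h2
    obtain ⟨s, hs1, hs2⟩ := Submodule.exists_sub_one_mem_and_smul_eq_zero_of_fg_of_le_smul q ⊤
      Module.Finite.fg_top hle
    refine ⟨s, fun hsq => hq.ne_top ((Ideal.eq_top_iff_one q).2 (by simpa using sub_mem hsq hs1)), fun x => ?_⟩
    rw [← Submodule.Quotient.mk_eq_zero N, Submodule.Quotient.mk_smul]
    exact hs2 _ trivial
  let Rq := Localization.AtPrime q
  let ℓ := LocalizedModule.mkLinearMap q.primeCompl Q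
  have hspan : ⊤ ≤ Submodule.span Rq (Set.range fun i => ℓ (e i)) := by
    intro y _
    induction y with
    | h x t =>
      obtain ⟨c, hc⟩ := (Submodule.mem_span_range_iff_exists_fun R).1 (hsQ x)
      have e1 : LocalizedModule.mk x t = Localization.mk 1 (⟨s, hs⟩ * t) • ℓ (s • x) := by
        rw [LocalizedModule.mkLinearMap_apply, LocalizedModule.mk_smul_mk, one_smul, mul_one]
        exact LocalizedModule.mk_eq.2 ⟨1, by
          simp only [one_smul, Submonoid.smul_def, Submonoid.coe_mul, smul_smul]
          rw [mul_comm]⟩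
      rw [e1, ← hc, map_sum]
      refine Submodule.smul_mem _ _ (Submodule.sum_mem _ fun i _ => ?_)
      rw [map_smul, ← algebraMap_smul Rq (c i)]
      exact Submodule.smul_mem _ _ (Submodule.subset_span ⟨i, rfl⟩)
  have hind : LinearIndependent Rq fun i => ℓ (e i) := by
    rw [Fintype.linearIndependent_iff]
    intro c hc
    obtain ⟨t, ht⟩ := IsLocalization.exist_integer_multiples_of_finite q.primeCompl c
    choose a ha using ht
    have h0 : ℓ (∑ i, a i • e i) = 0 := by
      rw [map_sum]
      calc ∑ i, ℓ (a i • e i) = ∑ i, (t : R) • (c i • ℓ (e i)) := Finset.sum_congr rfl fun i _ => by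
            rw [map_smul, ← smul_assoc, ← ha i, algebraMap_smul]
        _ = 0 := by rw [← Finset.smul_sum, hc, smul_zero]
    obtain ⟨v, hv⟩ := (IsLocalizedModule.eq_zero_iff q.primeCompl ℓ).1 h0
    rw [Submonoid.smul_def, Finset.smul_sum] at hv
    have h1 : Matrix.vecMul (fun i => ((v : R) * a i) ^ p) D = 0 := funext fun j => by
      have := congrArg (fun z => g' j (f z)) hv
      simpa only [map_sum, smul_smul, hf, map_smul, smul_eq_mul, map_zero, Matrix.vecMul, dotProduct, D,
        Pi.zero_apply] using this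
    have h2 : D.det • (fun i => ((v : R) * a i) ^ p) = 0 := by
      have := congrArg (fun z => Matrix.vecMul z D.adjugate) h1
      simpa [Matrix.vecMul_vecMul, Matrix.mul_adjugate, Matrix.vecMul_smul, Matrix.vecMul_one] using this
    intro i
    have h3 : D.det * ((v : R) * a i) = 0 := by
      refine IsNilpotent.eq_zero ⟨p, ?_⟩
      obtain ⟨p', rfl⟩ : ∃ p', p = p' + 1 := ⟨p - 1, by omega⟩
      have := congrFun h2 i
      simp only [Pi.smul_apply, smul_eq_mul, Pi.zero_apply] at this
      rw [mul_pow, pow_succ D.det, mul_assoc, this, mul_zero]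
    have h4 : algebraMap R Rq (a i) = 0 := (IsLocalization.map_eq_zero_iff q.primeCompl Rq _).2
      ⟨⟨D.det * v, q.primeCompl.mul_mem hD v.2⟩, by simpa [mul_assoc] using h3⟩
    rw [ha i, Algebra.smul_def] at h4
    exact (IsLocalization.map_units Rq t).mul_right_eq_zero.1 h4
  haveI : Module.Free Rq (LocalizedModule q.primeCompl Q) :=
    Module.Free.of_basis (Module.Basis.mk hind hspan)
  exact Module.Projective.of_free

end Groth.Agent.DispLift
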